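import Mathlib.GroupTheory.QuotientGroup.Basic
import Mathlib.Algebra.Group.Subgroup.Finite
import Mathlib.GroupTheory.Coset.Card
import Mathlib.GroupTheory.OrderOfElement

/-!
# Identifying a group through the permutations it induces on a finite family

If a finite group `G` acts on `X`, fixes each member of an injective family `x : Fin n → X` under a
normal subgroup `Z`, induces on the family a set of permutations generating `T`, and has order
`|Z| * |T|`, then it permutes the family and `G ⧸ Z ≃* T`.
-/

set_option autoImplicit false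

namespace Cfsg.Agent.Lib.PermIso

variable {G X : Type*} [Group G] [Finite G] {n : ℕ}

/-- The elements mapping the family into itself. -/
def setStab (f : G →* Equiv.Perm X) (x : Fin n → X) : Subgroup G where
  carrier := {g | ∀ i, f g (x i) ∈ Set.range x}
  one_mem' i := ⟨i, by simp⟩
  mul_mem' {a b} ha hb i := by
    obtain ⟨j, hj⟩ := hb i
    rw [map_mul, Equiv.Perm.mul_apply, ← hj]
    exact ha j
  inv_mem' {a} ha i := by
    have h : ∀ k : ℕ, f (a ^ k) (x i) ∈ Set.range x := by
      intro k
      induction k with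
      | zero => exact ⟨i, by simp⟩
      | succ k ih =>
        obtain ⟨j, hj⟩ := ih
        rw [pow_succ', map_mul, Equiv.Perm.mul_apply, ← hj]
        exact ha j
    have e : a⁻¹ = a ^ (orderOf a - 1) := by
      rw [inv_eq_iff_mul_eq_one, ← pow_succ', Nat.sub_add_cancel (orderOf_pos a), pow_orderOf_eq_one]
    rw [e]
    exact h _

variable (f : G →* Equiv.Perm X) {x : Fin n → X} (hx : Function.Injective x)

/-- The permutation of the indices. -/
noncomputable def idxMap (g : setStab f x) (i : Fin n) : Fin n := Classical.choose (g.2 i)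

theorem idxMap_spec (g : setStab f x) (i : Fin n) : x (idxMap f g i) = f g (x i) :=
  Classical.choose_spec (g.2 i)

/-- The induced permutations. -/
noncomputable def toPerm : setStab f x →* Equiv.Perm (Fin n) where
  toFun g := Equiv.ofBijective (idxMap f g) (Finite.injective_iff_bijective.1 fun i j h =>
    hx ((f g).injective (by rw [← idxMap_spec, ← idxMap_spec, h])))
  map_one' := Equiv.ext fun i => hx (by simp [idxMap_spec])
  map_mul' a b := Equiv.ext fun i => hx (by
    simp [idxMap_spec])

theorem toPerm_spec (g : setStab f x) (i : Fin n) : x (toPerm f hx g i) = f g (x i) :=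
  idxMap_spec f g i

include hx in
/-- The main statement. -/
theorem exists_iso (Z : Subgroup G) [Z.Normal] (hZ : ∀ z ∈ Z, ∀ i, f z (x i) = x i)
    (S : Set (Equiv.Perm (Fin n))) (hS : ∀ σ ∈ S, ∃ g : G, ∀ i, f g (x i) = x (σ i))
    (hcard : Nat.card G = Nat.card Z * Nat.card (Subgroup.closure S)) :
    Nonempty (G ⧸ Z ≃* Subgroup.closure S) := by
  set π := toPerm f hx
  set T := Subgroup.closure S
  have hT : T ≤ π.range := by
    rw [Subgroup.closure_le]
    intro σ hσ
    obtain ⟨g, hg⟩ := hS σ hσ
    exact ⟨⟨g, fun i => ⟨σ i, (hg i).symm⟩⟩, Equiv.ext fun i => hx ((toPerm_spec f hx _ i).trans (hg i))⟩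
  have hZS : Z ≤ setStab f x := fun z hz i => ⟨i, (hZ z hz i).symm⟩
  have hker : Z.subgroupOf (setStab f x) ≤ π.ker := fun g hg =>
    Equiv.ext fun i => hx ((toPerm_spec f hx g i).trans (hZ _ (Subgroup.mem_subgroupOf.1 hg) i))
  have hle : Nat.card π.range * Nat.card π.ker = Nat.card (setStab f x) := by
    rw [← Nat.card_congr (QuotientGroup.quotientKerEquivRange π).toEquiv]
    exact (Subgroup.card_eq_card_quotient_mul_card_subgroup π.ker).symm
  have h1 : Nat.card T ≤ Nat.card π.range := Subgroup.card_le_of_le hT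
  have h2 : Nat.card Z ≤ Nat.card π.ker := by
    rw [← Nat.card_congr (Subgroup.subgroupOfEquivOfLe hZS).toEquiv]
    exact Subgroup.card_le_of_le hker
  have h3 := Subgroup.card_le_card_group (setStab f x)
  have h4 : Nat.card (setStab f x) = Nat.card G := by
    refine le_antisymm h3 ?_
    rw [← hle, hcard, mul_comm]
    exact Nat.mul_le_mul h1 h2
  have htop : setStab f x = ⊤ := Subgroup.eq_top_of_card_eq _ h4
  let ρ : G →* Equiv.Perm (Fin n) :=
    π.comp ((MonoidHom.id G).codRestrict (setStab f x) fun g => htop.symm ▸ Subgroup.mem_top g)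
  have hρ : ρ.range = π.range := by
    ext σ
    constructor
    · rintro ⟨g, rfl⟩; exact ⟨_, rfl⟩
    · rintro ⟨g, rfl⟩; exact ⟨g, congrArg π (Subtype.ext rfl)⟩
  have hρT : T ≤ ρ.range := hρ ▸ hT
  have hZρ : Z ≤ ρ.ker := fun z hz => MonoidHom.mem_ker.2
    (MonoidHom.mem_ker.1 (hker (x := ⟨z, hZS hz⟩) (Subgroup.mem_subgroupOf.2 hz)))
  have hle' : Nat.card ρ.range * Nat.card ρ.ker = Nat.card G := by
    rw [← Nat.card_congr (QuotientGroup.quotientKerEquivRange ρ).toEquiv]
    exact (Subgroup.card_eq_card_quotient_mul_card_subgroup ρ.ker).symm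
  have hpos : 0 < Nat.card Z := Nat.card_pos
  have hposT : 0 < Nat.card T := Nat.card_pos
  have a1 := Subgroup.card_le_of_le hρT
  have a2 := Subgroup.card_le_of_le hZρ
  have e1 : Nat.card ρ.range = Nat.card T := by
    refine le_antisymm ?_ a1
    refine Nat.le_of_mul_le_mul_right ?_ hpos
    calc Nat.card ρ.range * Nat.card Z ≤ Nat.card ρ.range * Nat.card ρ.ker :=
          Nat.mul_le_mul le_rfl a2
      _ = _ := by rw [hle', hcard, mul_comm]
  have e2 : Nat.card ρ.ker = Nat.card Z := by
    rw [e1, hcard, mul_comm (Nat.card Z)] at hle'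
    exact Nat.eq_of_mul_eq_mul_left hposT hle'
  have f1 : ρ.range = T := (Subgroup.eq_of_le_of_card_ge hρT e1.le).symm
  have f2 : Z = ρ.ker := Subgroup.eq_of_le_of_card_ge hZρ e2.le
  exact ⟨(QuotientGroup.quotientMulEquivOfEq f2).trans
    ((QuotientGroup.quotientKerEquivRange ρ).trans (MulEquiv.subgroupCongr f1))⟩

include hx in
/-- The case of a faithful family. -/
theorem exists_iso_of_card_eq (S : Set (Equiv.Perm (Fin n)))
    (hS : ∀ σ ∈ S, ∃ g : G, ∀ i, f g (x i) = x (σ i))
    (hcard : Nat.card G = Nat.card (Subgroup.closure S)) :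
    Nonempty (G ≃* Subgroup.closure S) := by
  obtain ⟨e⟩ := exists_iso f hx ⊥ (fun z hz i => by rw [Subgroup.mem_bot.1 hz, map_one]; rfl) S hS
    (by rw [hcard, Subgroup.card_bot, one_mul])
  exact ⟨QuotientGroup.quotientBot.symm.trans e⟩

end Cfsg.Agent.Lib.PermIso
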